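import Mathlib.AlgebraicGeometry.Cover.Open
import Mathlib.AlgebraicGeometry.Gluing
import Mathlib.AlgebraicGeometry.AffineScheme

/-!
Morphisms out of affine schemes are determined by their pull-backs along a jointly injective pair of
ring maps, one of which is surjective on spectra.
-/

universe u

open CategoryTheory AlgebraicGeometry

noncomputable section

namespace Groth.Agent.LieSL

theorem _root_.Groth.Agent.LieSL.GmPtsAux.appTop_comp_apply {X Y Z : Scheme.{u}} (f : X ⟶ Y) (g : Y ⟶ Z) (z : Γ(Z, ⊤)) :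
    (f ≫ g).appTop z = f.appTop (g.appTop z) := by
  rw [Scheme.Hom.comp_appTop]; rfl

variable {A A₁ A₂ : Type u} [CommRing A] [CommRing A₁] [CommRing A₂]

theorem away_map_injective (g₁ : A →+* A₁) (g₂ : A →+* A₂)
    (hinj : ∀ c, g₁ c = 0 → g₂ c = 0 → c = 0) (a : A) (c : Localization.Away a)
    (h₁ : IsLocalization.Away.map (Localization.Away a) (Localization.Away (g₁ a)) g₁ a c = 0)
    (h₂ : IsLocalization.Away.map (Localization.Away a) (Localization.Away (g₂ a)) g₂ a c = 0) : c = 0 := by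
  obtain ⟨⟨n, s⟩, hn⟩ := IsLocalization.surj (Submonoid.powers a) c
  have key : ∀ {A' : Type u} [CommRing A'] (g : A →+* A'),
      IsLocalization.Away.map (Localization.Away a) (Localization.Away (g a)) g a c = 0 →
      ∃ m : ℕ, g (a ^ m * n) = 0 := by
    intro A' _ g hg
    have h := congrArg (IsLocalization.Away.map (Localization.Away a) (Localization.Away (g a)) g a) hn
    rw [map_mul, hg, zero_mul] at h
    simp only [IsLocalization.Away.map, IsLocalization.map_eq] at h
    obtain ⟨⟨_, m, rfl⟩, hm⟩ := (IsLocalization.map_eq_zero_iff (Submonoid.powers (g a)) _ _).mp h.symm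
    exact ⟨m, by rw [map_mul, map_pow]; exact hm⟩
  obtain ⟨m₁, hm₁⟩ := key g₁ h₁
  obtain ⟨m₂, hm₂⟩ := key g₂ h₂
  have h0 : a ^ (m₁ + m₂) * n = 0 := by
    refine hinj _ ?_ ?_
    · rw [pow_add, _root_.mul_right_comm, map_mul, hm₁, zero_mul]
    · rw [pow_add, _root_.mul_assoc, map_mul, hm₂, mul_zero]
  have hn0 : algebraMap A (Localization.Away a) n = 0 :=
    (IsLocalization.map_eq_zero_iff (Submonoid.powers a) _ _).mpr ⟨⟨_, m₁ + m₂, rfl⟩, h0⟩
  rw [hn0] at hn
  exact (IsLocalization.map_units (Localization.Away a) s).mul_left_eq_zero.mp hn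

/-- a pair of morphisms `Spec A ⟶ X` agreeing after `g₁` and `g₂` are equal -/
theorem spec_hom_ext {X : Scheme.{u}} (g₁ : A →+* A₁) (g₂ : A →+* A₂)
    (hs : Function.Surjective (Spec.map (CommRingCat.ofHom g₁)).base)
    (hinj : ∀ c, g₁ c = 0 → g₂ c = 0 → c = 0) (x y : Spec (CommRingCat.of A) ⟶ X)
    (h₁ : Spec.map (CommRingCat.ofHom g₁) ≫ x = Spec.map (CommRingCat.ofHom g₁) ≫ y)
    (h₂ : Spec.map (CommRingCat.ofHom g₂) ≫ x = Spec.map (CommRingCat.ofHom g₂) ≫ y) : x = y := by
  have hb : ∀ p, x.base p = y.base p := by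
    intro p
    obtain ⟨q, rfl⟩ := hs p
    exact congrArg (fun f => f.base q) h₁
  let s : {a : A // ∃ U : X.Opens, IsAffineOpen U ∧
      ∀ p, p ∈ PrimeSpectrum.basicOpen a → x.base p ∈ U} → CommRingCat.of A := fun a => a.1
  have hspan : Ideal.span (Set.range s) = ⊤ := by
    by_contra hne
    obtain ⟨M, hM, hle⟩ := Ideal.exists_le_maximal _ hne
    let p : PrimeSpectrum A := ⟨M, hM.isPrime⟩
    obtain ⟨U, hU, hpU, -⟩ := X.isBasis_affineOpens.exists_subset_of_mem_open
      (Set.mem_univ (x.base p)) isOpen_univ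
    obtain ⟨U, hUaff, rfl⟩ := hU
    obtain ⟨_, ⟨a, rfl⟩, hpa, hsub⟩ := PrimeSpectrum.isTopologicalBasis_basic_opens.exists_subset_of_mem_open
      (u := x.base ⁻¹' (U : Set X)) (show p ∈ x.base ⁻¹' (U : Set X) from hpU) (U.2.preimage x.continuous)
    exact hpa (hle (Ideal.subset_span ⟨⟨a, U, hUaff, fun q hq => hsub hq⟩, rfl⟩))
  refine AlgebraicGeometry.Scheme.Cover.hom_ext (Scheme.affineOpenCoverOfSpanRangeEqTop s hspan).openCover _ _ fun i => ?_
  obtain ⟨a, U, hU, hsub⟩ := i
  change Spec.map (CommRingCat.ofHom (algebraMap A (Localization.Away a))) ≫ x =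
    Spec.map (CommRingCat.ofHom (algebraMap A (Localization.Away a))) ≫ y
  let c := Spec.map (CommRingCat.ofHom (algebraMap A (Localization.Away a)))
  have hr : ∀ (z : Spec (CommRingCat.of A) ⟶ X), (∀ q, z.base q = x.base q) →
      Set.range (c ≫ z).base ⊆ Set.range U.ι.base := by
    rintro z hz _ ⟨q, rfl⟩
    rw [Scheme.Opens.range_ι]
    change z.base (c.base q) ∈ U
    rw [hz]
    exact hsub _ ((PrimeSpectrum.localization_away_comap_range (Localization.Away a) a).le ⟨q, rfl⟩)
  let lx := IsOpenImmersion.lift U.ι (c ≫ x) (hr x fun _ => rfl)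
  let ly := IsOpenImmersion.lift U.ι (c ≫ y) (hr y fun q => (hb q).symm)
  haveI : IsAffine (U : Scheme.{u}) := hU
  have key : ∀ {A' : Type u} [CommRing A'] (g : A →+* A'),
      Spec.map (CommRingCat.ofHom g) ≫ x = Spec.map (CommRingCat.ofHom g) ≫ y →
      ∀ e : Γ((U : Scheme.{u}), ⊤),
        IsLocalization.Away.map (Localization.Away a) (Localization.Away (g a)) g a
          ((Scheme.ΓSpecIso _).hom (lx.appTop e) - (Scheme.ΓSpecIso _).hom (ly.appTop e)) = 0 := by
    intro A' _ g hg e
    let φ := CommRingCat.ofHom (IsLocalization.Away.map (Localization.Away a) (Localization.Away (g a)) g a)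
    have hcomm : Spec.map φ ≫ c =
        Spec.map (CommRingCat.ofHom (algebraMap A' (Localization.Away (g a)))) ≫ Spec.map (CommRingCat.ofHom g) := by
      rw [← Spec.map_comp, ← Spec.map_comp]
      congr 1
      ext b
      change IsLocalization.Away.map (Localization.Away a) (Localization.Away (g a)) g a
          (algebraMap A (Localization.Away a) b) = algebraMap A' (Localization.Away (g a)) (g b)
      exact IsLocalization.map_eq (M := Submonoid.powers a) _ b
    have hl : Spec.map φ ≫ lx = Spec.map φ ≫ ly := by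
      rw [← cancel_mono U.ι]
      simp only [Category.assoc, lx, ly, IsOpenImmersion.lift_fac]
      rw [← Category.assoc, hcomm, Category.assoc, hg, ← Category.assoc, ← hcomm, Category.assoc]
    have hn : ∀ (z : Γ(Spec (CommRingCat.of (Localization.Away a)), ⊤)),
        φ ((Scheme.ΓSpecIso _).hom z) = (Scheme.ΓSpecIso _).hom ((Spec.map φ).appTop z) := fun z =>
      (congrArg (fun ψ => (ConcreteCategory.hom ψ) z) (Scheme.ΓSpecIso_naturality φ)).symm
    rw [map_sub]
    change φ _ - φ _ = 0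
    rw [hn, hn, ← GmPtsAux.appTop_comp_apply, ← GmPtsAux.appTop_comp_apply, hl, sub_self]
  have hlxy : lx = ly := by
    refine ext_of_isAffine (CommRingCat.hom_ext (RingHom.ext fun e => ?_))
    have h := away_map_injective g₁ g₂ hinj a _ (key g₁ h₁ e) (key g₂ h₂ e)
    exact (ConcreteCategory.bijective_of_isIso (Scheme.ΓSpecIso _).hom).1 (sub_eq_zero.mp h)
  calc c ≫ x = lx ≫ U.ι := (IsOpenImmersion.lift_fac _ _ _).symm
    _ = ly ≫ U.ι := by rw [hlxy]
    _ = c ≫ y := IsOpenImmersion.lift_fac _ _ _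

/-- variant of `spec_hom_ext` for a single injective ring map -/
theorem spec_hom_ext_injective {X : Scheme.{u}} (g : A →+* A₁)
    (hs : Function.Surjective (PrimeSpectrum.comap g))
    (hinj : ∀ c, g c = 0 → c = 0) (x y : Spec (CommRingCat.of A) ⟶ X)
    (h : Spec.map (CommRingCat.ofHom g) ≫ x = Spec.map (CommRingCat.ofHom g) ≫ y) : x = y :=
  spec_hom_ext g g (fun p => hs p) (fun c hc _ => hinj c hc) x y h h

end Groth.Agent.LieSL

end
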