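import Groth.Prelude.Def_LieS
import Groth.Agent.Lib.LieS.Uniq

/-!
The group law of `LieS.Lie` is commutative and is the addition of the rescaling action.
-/

universe u

open CategoryTheory MonoidalCategory CartesianMonoidalCategory MonObj AlgebraicGeometry TrivSqZeroExt

noncomputable section

namespace Groth.Agent.LieSL

variable {S : Scheme.{u}} {B : Type u} [CommRing B] (f : Spec (CommRingCat.of B) ⟶ S)

/-- `Spec (B ⊕ M)` over `S` -/
def sqz (M : Type u) [AddCommGroup M] [Module B M] [Module Bᵐᵒᵖ M] [IsCentralScalar B M] : Over S :=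
  Over.mk (Spec.map (CommRingCat.ofHom (algebraMap B (TrivSqZeroExt B M))) ≫ f)

variable {M N P : Type u} [AddCommGroup M] [Module B M] [Module Bᵐᵒᵖ M] [IsCentralScalar B M]
  [AddCommGroup N] [Module B N] [Module Bᵐᵒᵖ N] [IsCentralScalar B N]
  [AddCommGroup P] [Module B P] [Module Bᵐᵒᵖ P] [IsCentralScalar B P]

/-- functoriality of `sqz` in the module -/
def sqzMap (l : M →ₗ[B] N) : sqz f N ⟶ sqz f M :=
  Over.homMk (Spec.map (CommRingCat.ofHom (TrivSqZeroExt.map l).toRingHom)) (by
    change Spec.map _ ≫ Spec.map _ ≫ f = Spec.map _ ≫ f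
    rw [← Category.assoc, LieS.specMap_comp]
    congr 3
    exact (TrivSqZeroExt.map l).comp_algebraMap)

@[reassoc]
theorem sqzMap_comp (l : M →ₗ[B] N) (l' : N →ₗ[B] P) :
    sqzMap f l' ≫ sqzMap f l = sqzMap f (l'.comp l) := by
  ext : 1
  change Spec.map _ ≫ Spec.map _ = Spec.map _
  rw [LieS.specMap_comp, map_comp_map]
  rfl

theorem sqzMap_id : sqzMap f (LinearMap.id : M →ₗ[B] M) = 𝟙 _ := by
  ext : 1
  change Spec.map _ = 𝟙 _
  rw [TrivSqZeroExt.map_id]
  exact Spec.map_id _

/-- jointly injective linear maps detect equality of points -/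
theorem sqz_hom_ext {X : Over S} (l : M →ₗ[B] N) (l' : M →ₗ[B] P)
    (hll : ∀ m, l m = 0 → l' m = 0 → m = 0) (x y : sqz f M ⟶ X)
    (h₁ : sqzMap f l ≫ x = sqzMap f l ≫ y) (h₂ : sqzMap f l' ≫ x = sqzMap f l' ≫ y) : x = y := by
  ext : 1
  refine spec_hom_ext (TrivSqZeroExt.map l).toRingHom (TrivSqZeroExt.map l').toRingHom ?_ ?_ _ _
    (congrArg CommaMorphism.left h₁) (congrArg CommaMorphism.left h₂)
  · intro p
    have hs : Function.Surjective (PrimeSpectrum.comap (TrivSqZeroExt.map l).toRingHom) := by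
      intro q
      have hq : RingHom.ker (fstHom B B M).toRingHom ≤ q.asIdeal := by
        intro c hc
        apply q.isPrime.mem_of_pow_mem 2
        have hc' : c = inr c.snd := TrivSqZeroExt.ext (by simpa using hc) (by simp)
        rw [pow_two, hc', inr_mul_inr]
        exact q.asIdeal.zero_mem
      refine ⟨⟨Ideal.comap (fstHom B B N).toRingHom (Ideal.comap (inlHom B M) q.asIdeal),
        inferInstance⟩, PrimeSpectrum.ext (Ideal.ext fun c => ?_)⟩
      simp only [PrimeSpectrum.comap_asIdeal, Ideal.mem_comap]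
      have e : (fstHom B B N).toRingHom ((TrivSqZeroExt.map l).toRingHom c) = c.fst := by simp
      rw [e]
      have hr : (inr c.snd : TrivSqZeroExt B M) ∈ q.asIdeal := hq (by simp)
      change inl c.fst ∈ q.asIdeal ↔ c ∈ q.asIdeal
      conv_rhs => rw [← inl_fst_add_inr_snd_eq c]
      exact (Ideal.add_mem_iff_left _ hr).symm
    exact hs p
  · intro c h h'
    have e := congrArg snd h
    have e' := congrArg snd h'
    simp only [AlgHom.toRingHom_eq_coe, RingHom.coe_coe, snd_map, snd_zero] at e e'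
    refine TrivSqZeroExt.ext ?_ (by simpa using hll _ e e')
    simpa using congrArg fst h

variable {G : Over S} [MonObj G]

abbrev i₁ : B →ₗ[B] B × B := LinearMap.inl B B B
abbrev i₂ : B →ₗ[B] B × B := LinearMap.inr B B B

variable (G) in
/-- "kernel" points: those trivial along the zero section -/
def IsKer (v : sqz f B ⟶ G) : Prop := sqzMap f (0 : B →ₗ[B] B) ≫ v = 1

omit [MonObj G] in
theorem scale_eq (b : B) : LieS.scale B f b = sqzMap f (b • LinearMap.id : B →ₗ[B] B) := by
  ext : 1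
  change Spec.map _ = Spec.map _
  congr 2
  refine RingHom.ext fun x => TrivSqZeroExt.ext ?_ ?_ <;>
    simp [LieS.scaleHom, algebraMap_eq_inl', _root_.mul_comm]

omit [MonObj G] in
theorem proj_zeroSec : LieS.proj B f ≫ LieS.zeroSec B f = sqzMap f (0 : B →ₗ[B] B) := by
  ext : 1
  change Spec.map _ ≫ Spec.map _ = Spec.map _
  rw [LieS.specMap_comp]
  congr 2
  refine RingHom.ext fun x => TrivSqZeroExt.ext ?_ ?_ <;> simp [algebraMap_eq_inl']

theorem isKer_of_zeroSec {v : LieS.dpt B f ⟶ G} (h : LieS.zeroSec B f ≫ v = 1) : IsKer f G v := by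
  change sqzMap f (0 : B →ₗ[B] B) ≫ v = 1
  erw [← proj_zeroSec f, Category.assoc, h, MonObj.comp_one]

/-- the point of `G` over `B ⊕ B²` with components `v, w` -/
def pairPt (v w : sqz f B ⟶ G) : sqz f (B × B) ⟶ G := (sqzMap f i₁ ≫ v) * (sqzMap f i₂ ≫ w)

theorem comp_pairPt (v w : sqz f B ⟶ G) (l : B × B →ₗ[B] B) :
    sqzMap f l ≫ pairPt f v w = (sqzMap f (l.comp i₁) ≫ v) * (sqzMap f (l.comp i₂) ≫ w) := by
  rw [pairPt, MonObj.comp_mul, sqzMap_comp_assoc, sqzMap_comp_assoc]

theorem pair_ext {x y : sqz f (B × B) ⟶ G}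
    (h₁ : sqzMap f (LinearMap.fst B B B) ≫ x = sqzMap f (LinearMap.fst B B B) ≫ y)
    (h₂ : sqzMap f (LinearMap.snd B B B) ≫ x = sqzMap f (LinearMap.snd B B B) ≫ y) : x = y :=
  sqz_hom_ext f _ _ (fun m h h' => Prod.ext h h') x y h₁ h₂

theorem pairPt_fst {v w : sqz f B ⟶ G} (hw : IsKer f G w) :
    sqzMap f (LinearMap.fst B B B) ≫ pairPt f v w = v := by
  rw [comp_pairPt, show (LinearMap.fst B B B).comp i₁ = LinearMap.id by ext; simp,
    show (LinearMap.fst B B B).comp i₂ = 0 by ext; simp, sqzMap_id, Category.id_comp, hw, _root_.mul_one]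

theorem pairPt_snd {v w : sqz f B ⟶ G} (hv : IsKer f G v) :
    sqzMap f (LinearMap.snd B B B) ≫ pairPt f v w = w := by
  rw [comp_pairPt, show (LinearMap.snd B B B).comp i₁ = 0 by ext; simp,
    show (LinearMap.snd B B B).comp i₂ = LinearMap.id by ext; simp, sqzMap_id, Category.id_comp, hv, _root_.one_mul]

theorem ker_mul_comm {v w : sqz f B ⟶ G} (hv : IsKer f G v) (hw : IsKer f G w) : v * w = w * v := by
  let σ : B × B →ₗ[B] B := LinearMap.fst B B B + LinearMap.snd B B B
  have h : pairPt f v w = (sqzMap f i₂ ≫ w) * (sqzMap f i₁ ≫ v) := by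
    refine pair_ext f ?_ ?_
    · rw [pairPt_fst f hw, MonObj.comp_mul, sqzMap_comp_assoc, sqzMap_comp_assoc,
        show (LinearMap.fst B B B).comp i₁ = LinearMap.id by ext; simp,
        show (LinearMap.fst B B B).comp i₂ = 0 by ext; simp, sqzMap_id, Category.id_comp, hw, _root_.one_mul]
    · rw [pairPt_snd f hv, MonObj.comp_mul, sqzMap_comp_assoc, sqzMap_comp_assoc,
        show (LinearMap.snd B B B).comp i₁ = 0 by ext; simp,
        show (LinearMap.snd B B B).comp i₂ = LinearMap.id by ext; simp, sqzMap_id, Category.id_comp, hv,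
        _root_.mul_one]
  have h' := congrArg (sqzMap f σ ≫ ·) h
  simp only [comp_pairPt, MonObj.comp_mul, sqzMap_comp_assoc] at h'
  rwa [show σ.comp i₁ = LinearMap.id by ext; simp [σ], show σ.comp i₂ = LinearMap.id by ext; simp [σ],
    sqzMap_id, Category.id_comp, Category.id_comp] at h'

theorem ker_smul_add {v : sqz f B ⟶ G} (hv : IsKer f G v) (b c : B) :
    sqzMap f ((b + c) • LinearMap.id : B →ₗ[B] B) ≫ v =
      (sqzMap f (b • LinearMap.id : B →ₗ[B] B) ≫ v) * (sqzMap f (c • LinearMap.id : B →ₗ[B] B) ≫ v) := by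
  let l : B →ₗ[B] B × B := (LinearMap.id : B →ₗ[B] B).prod LinearMap.id
  let τ : B × B →ₗ[B] B := b • LinearMap.fst B B B + c • LinearMap.snd B B B
  have h : sqzMap f l ≫ v = pairPt f v v := by
    refine pair_ext f ?_ ?_
    · rw [pairPt_fst f hv, sqzMap_comp_assoc,
        show (LinearMap.fst B B B).comp l = LinearMap.id by ext; simp [l], sqzMap_id, Category.id_comp]
    · rw [pairPt_snd f hv, sqzMap_comp_assoc,
        show (LinearMap.snd B B B).comp l = LinearMap.id by ext; simp [l], sqzMap_id, Category.id_comp]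
  have h' := congrArg (sqzMap f τ ≫ ·) h
  simp only [comp_pairPt, sqzMap_comp_assoc] at h'
  rwa [show τ.comp l = (b + c) • LinearMap.id by ext; simp [τ, l],
    show τ.comp i₁ = b • LinearMap.id by ext; simp [τ], show τ.comp i₂ = c • LinearMap.id by ext; simp [τ]] at h'

end Groth.Agent.LieSL

end
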