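import Groth.Agent.Lib.LieS.Basic
import Groth.Prelude.Def_Red

/-! Points of `Red.diag R M` on dual numbers. -/

universe u

open CategoryTheory MonoidalCategory CartesianMonoidalCategory MonObj AlgebraicGeometry TrivSqZeroExt

noncomputable section

namespace Groth.Agent.LieSL

variable {R : Type u} [CommRing R] {M : Type} [AddCommGroup M] {B C : Type u} [CommRing B] [Algebra R B]
  [CommRing C] [Algebra R C]

/-- `Spec B` as built by `LieS.pt` is `Spec B` over `Spec R`. -/
def ptIso : LieS.pt B (Spec.map (CommRingCat.ofHom (algebraMap R B))) ≅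
    (Spec (CommRingCat.of B)).asOver (Spec (CommRingCat.of R)) :=
  Over.isoMk (Iso.refl (Spec (CommRingCat.of B))) (Category.id_comp _)

/-- value of a point of `D(M)` at a character -/
def val (v : (Spec (CommRingCat.of C)).asOver (Spec (CommRingCat.of R)) ⟶ Red.diag R M) (m : M) : C :=
  (Spec.mapMulEquiv.symm v).ofConv (MonoidAlgebra.single (Multiplicative.ofAdd m) 1)

theorem val_mul (v w : (Spec (CommRingCat.of C)).asOver (Spec (CommRingCat.of R)) ⟶ Red.diag R M) (m : M) :
    val (v * w) m = val v m * val w m := by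
  simp only [val, map_mul, AlgHom.convMul_apply, MonoidAlgebra.comul_single]
  simp

theorem val_one (m : M) : val (1 : (Spec (CommRingCat.of C)).asOver (Spec (CommRingCat.of R)) ⟶ Red.diag R M) m = 1 := by
  have h1 : Spec.mapMulEquiv.symm (1 : (Spec (CommRingCat.of C)).asOver (Spec (CommRingCat.of R)) ⟶ Red.diag R M)
      = 1 := map_one _
  rw [val, h1, AlgHom.convOne_apply]
  simp

theorem val_add (v : (Spec (CommRingCat.of C)).asOver (Spec (CommRingCat.of R)) ⟶ Red.diag R M) (a b : M) :
    val v (a + b) = val v a * val v b := by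
  rw [val, val, val, ← map_mul, MonoidAlgebra.single_mul_single, _root_.mul_one]
  rfl

theorem val_zero (v : (Spec (CommRingCat.of C)).asOver (Spec (CommRingCat.of R)) ⟶ Red.diag R M) :
    val v 0 = 1 := map_one (Spec.mapMulEquiv.symm v).ofConv

theorem val_ext {v w : (Spec (CommRingCat.of C)).asOver (Spec (CommRingCat.of R)) ⟶ Red.diag R M}
    (h : ∀ m, val v m = val w m) : v = w := by
  apply Spec.mapMulEquiv.symm.injective
  exact WithConv.ofConv_injective (MonoidAlgebra.algHom_ext (fun m => h (Multiplicative.toAdd m)) (Subsingleton.elim _ _))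

/-- the point with given values -/
def ptOfVal (φ : Multiplicative M →* C) :
    (Spec (CommRingCat.of C)).asOver (Spec (CommRingCat.of R)) ⟶ Red.diag R M :=
  Spec.mapMulEquiv (WithConv.toConv (MonoidAlgebra.lift R C (Multiplicative M) φ))

theorem val_ptOfVal (φ : Multiplicative M →* C) (m : M) :
    val (ptOfVal φ : (Spec (CommRingCat.of C)).asOver (Spec (CommRingCat.of R)) ⟶ Red.diag R M) m =
      φ (Multiplicative.ofAdd m) := by
  rw [val, ptOfVal, MulEquiv.symm_apply_apply]
  simp [MonoidAlgebra.lift_single]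

/-- functoriality in the test ring -/
theorem val_comp {w : (Spec (CommRingCat.of B)).asOver (Spec (CommRingCat.of R)) ⟶ Red.diag R M}
    {v : (Spec (CommRingCat.of C)).asOver (Spec (CommRingCat.of R)) ⟶ Red.diag R M} (g : C →+* B)
    (h : w.left = Spec.map (CommRingCat.ofHom g) ≫ v.left) (m : M) : val w m = g (val v m) := by
  change (Spec.preimage w.left).hom _ = g ((Spec.preimage v.left).hom _)
  have e : Spec.preimage w.left = Spec.preimage v.left ≫ CommRingCat.ofHom g := by
    apply Spec.map_injective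
    rw [Spec.map_preimage, Spec.map_comp, Spec.map_preimage, h]
    rfl
  rw [e]
  rfl

/-- value of a point on dual numbers -/
def dval (v : LieS.dpt B (Spec.map (CommRingCat.ofHom (algebraMap R B))) ⟶ Red.diag R M) (m : M) : DualNumber B :=
  val ((LieS.dptIso B).inv ≫ v) m

theorem fst_dval (v : LieS.dpt B (Spec.map (CommRingCat.ofHom (algebraMap R B))) ⟶ Red.diag R M) (m : M) :
    fst (dval v m) = val (ptIso.inv ≫ LieS.zeroSec B _ ≫ v) m := by
  refine (val_comp (w := ptIso.inv ≫ LieS.zeroSec B _ ≫ v) (v := (LieS.dptIso B).inv ≫ v)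
    (fstHom B B B).toRingHom ?_ m).symm
  simp [ptIso, LieS.dptIso, LieS.zeroSec]
  rfl

theorem mem_Lie_iff_dval (v : LieS.dpt B (Spec.map (CommRingCat.ofHom (algebraMap R B))) ⟶ Red.diag R M) :
    v ∈ LieS.LieR (Red.diag R M) B ↔ ∀ m, fst (dval v m) = 1 := by
  rw [LieS.LieR, LieS.mem_Lie_iff]
  constructor
  · intro h m
    rw [fst_dval, h, MonObj.comp_one, val_one]
  · intro h
    rw [← cancel_epi ptIso.inv, MonObj.comp_one]
    refine val_ext fun m => ?_
    rw [← fst_dval, h, val_one]

theorem dval_scale (b : B) (v : LieS.dpt B (Spec.map (CommRingCat.ofHom (algebraMap R B))) ⟶ Red.diag R M) (m : M) :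
    dval (LieS.scale B _ b ≫ v) m = LieS.scaleHom b (dval v m) := by
  refine val_comp (LieS.scaleHom b) ?_ m
  simp [LieS.dptIso, LieS.scale]
  rfl

theorem dval_mul (v w : LieS.dpt B (Spec.map (CommRingCat.ofHom (algebraMap R B))) ⟶ Red.diag R M) (m : M) :
    dval (v * w) m = dval v m * dval w m := by
  rw [dval, MonObj.comp_mul, val_mul]; rfl

end Groth.Agent.LieSL

end
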