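import Groth.Agent.Lib.LieS.Uniq
import Mathlib.RingTheory.Nilpotent.Basic

/-!
Descent of morphisms out of an affine scheme to a subring cut out by equalities, when the two
spectra agree topologically.
-/

universe u

open CategoryTheory AlgebraicGeometry CategoryTheory.Limits

noncomputable section

namespace Groth.Agent.LieSL

variable {A A' C : Type u} [CommRing A] [CommRing A'] [CommRing C]

/-- the map of localisations at `r` induced by `p`, with the target localised at `e = p r` -/
def locMap (p : A' →+* C) (r : A') (e : C) (he : p r = e) :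
    Localization.Away r →+* Localization.Away e :=
  IsLocalization.Away.lift r (g := (algebraMap C (Localization.Away e)).comp p)
    (by rw [RingHom.comp_apply, he]; exact IsLocalization.Away.algebraMap_isUnit _)

theorem locMap_algebraMap (p : A' →+* C) (r : A') (e : C) (he : p r = e) (z : A') :
    locMap p r e he (algebraMap A' _ z) = algebraMap C _ (p z) :=
  IsLocalization.Away.lift_eq r _ z

theorem mem_range_locMap (g : A →+* A') (p₁ q₁ p₂ q₂ : A' →+* C)
    (hp₁ : ∀ a, q₁ (g a) = p₁ (g a)) (hp₂ : ∀ a, q₂ (g a) = p₂ (g a))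
    (hex : ∀ x : A', p₁ x = q₁ x → p₂ x = q₂ x → ∃ a, g a = x)
    (a : A) (y : Localization.Away (g a))
    (h₁ : locMap p₁ (g a) _ rfl y = locMap q₁ (g a) _ (hp₁ a) y)
    (h₂ : locMap p₂ (g a) _ rfl y = locMap q₂ (g a) _ (hp₂ a) y) :
    y ∈ (locMap g a (g a) rfl).range := by
  obtain ⟨n, x, hx⟩ := IsLocalization.Away.surj (g a) y
  have key : ∀ (p q : A' →+* C) (hpq : q (g a) = p (g a)),
      locMap p (g a) _ rfl y = locMap q (g a) _ hpq y →
      ∃ m : ℕ, p (g a) ^ m * p x = p (g a) ^ m * q x := by
    intro p q hpq he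
    have hxp := congrArg (locMap p (g a) _ rfl) hx
    have hxq := congrArg (locMap q (g a) _ hpq) hx
    rw [map_mul, map_pow, locMap_algebraMap, locMap_algebraMap] at hxp hxq
    rw [hpq, ← he, hxp] at hxq
    exact IsLocalization.Away.exists_of_eq (p (g a)) hxq
  obtain ⟨m₁, hm₁⟩ := key p₁ q₁ (hp₁ a) h₁
  obtain ⟨m₂, hm₂⟩ := key p₂ q₂ (hp₂ a) h₂
  obtain ⟨b, hb⟩ := hex (g a ^ (m₁ + m₂) * x) (by
      rw [map_mul, map_mul, map_pow, map_pow, hp₁ a, pow_add, mul_comm (p₁ (g a) ^ m₁), mul_assoc,
        mul_assoc, hm₁]) (by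
      rw [map_mul, map_mul, map_pow, map_pow, hp₂ a, pow_add, mul_assoc, mul_assoc, hm₂])
  have hu : IsUnit ((algebraMap A (Localization.Away a) a) ^ (n + (m₁ + m₂))) :=
    (IsLocalization.Away.algebraMap_isUnit a).pow _
  refine ⟨algebraMap A _ b * ↑hu.unit⁻¹, ?_⟩
  have hv : IsUnit ((algebraMap A' (Localization.Away (g a)) (g a)) ^ (n + (m₁ + m₂))) :=
    (IsLocalization.Away.algebraMap_isUnit (g a)).pow _
  refine hv.mul_right_cancel ?_
  rw [map_mul, mul_assoc, locMap_algebraMap, hb, map_mul, map_pow, ← hx, pow_add]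
  have : locMap g a (g a) rfl ↑hu.unit⁻¹ * algebraMap A' (Localization.Away (g a)) (g a) ^ (n + (m₁ + m₂)) = 1 := by
    have h' := congrArg (locMap g a (g a) rfl) hu.val_inv_mul
    rw [map_mul, map_pow, locMap_algebraMap, map_one] at h'
    exact h'
  rw [← pow_add, this]
  rw [pow_add]
  ring

theorem locMap_injective (g : A →+* A') (hg : Function.Injective g) (a : A) :
    Function.Injective (locMap g a (g a) rfl) := by
  rw [injective_iff_map_eq_zero]
  intro z hz
  obtain ⟨n, x, hx⟩ := IsLocalization.Away.surj a z
  have h := congrArg (locMap g a (g a) rfl) hx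
  rw [map_mul, hz, zero_mul, locMap_algebraMap] at h
  obtain ⟨m, hm⟩ := IsLocalization.Away.exists_of_eq (S := Localization.Away (g a)) (g a) (a := g x) (b := 0) (by rw [map_zero]; exact h.symm)
  rw [mul_zero, ← map_pow, ← map_mul] at hm
  have hx0 : algebraMap A (Localization.Away a) (a ^ m * x) = 0 := by
    rw [hg (hm.trans (map_zero g).symm), map_zero]
  rw [map_mul, map_pow, ((IsLocalization.Away.algebraMap_isUnit a).pow m).mul_right_eq_zero] at hx0
  rw [hx0] at hx
  exact ((IsLocalization.Away.algebraMap_isUnit a).pow n).mul_left_eq_zero.mp hx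

theorem specMap_locMap (p : A' →+* C) (r : A') (e : C) (he : p r = e) :
    Spec.map (CommRingCat.ofHom (locMap p r e he)) ≫
        Spec.map (CommRingCat.ofHom (algebraMap A' (Localization.Away r))) =
      Spec.map (CommRingCat.ofHom (algebraMap C (Localization.Away e))) ≫ Spec.map (CommRingCat.ofHom p) := by
  rw [← Spec.map_comp, ← Spec.map_comp]
  congr 1
  ext z
  exact locMap_algebraMap p r e he z

theorem specMap_awayLift (a : A) (φ : A →+* A') (hu : IsUnit (φ a)) :
    Spec.map (CommRingCat.ofHom (IsLocalization.Away.lift a (g := φ) hu (S := Localization.Away a))) ≫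
        Spec.map (CommRingCat.ofHom (algebraMap A (Localization.Away a))) =
      Spec.map (CommRingCat.ofHom φ) := by
  rw [← Spec.map_comp]
  congr 1
  apply CommRingCat.hom_ext
  exact IsLocalization.Away.lift_comp a hu

/-- The descent statement. -/
theorem exists_factor {X : Scheme.{u}} (g : A →+* A') (hg : Function.Injective g)
    (hs : Function.Surjective (PrimeSpectrum.comap g)) (hnil : ∀ x : A', ∃ a, IsNilpotent (x - g a))
    (p₁ q₁ p₂ q₂ : A' →+* C)
    (hp₁ : ∀ a, q₁ (g a) = p₁ (g a)) (hp₂ : ∀ a, q₂ (g a) = p₂ (g a))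
    (hex : ∀ x : A', p₁ x = q₁ x → p₂ x = q₂ x → ∃ a, g a = x)
    (w : Spec (CommRingCat.of A') ⟶ X)
    (hw₁ : Spec.map (CommRingCat.ofHom p₁) ≫ w = Spec.map (CommRingCat.ofHom q₁) ≫ w)
    (hw₂ : Spec.map (CommRingCat.ofHom p₂) ≫ w = Spec.map (CommRingCat.ofHom q₂) ≫ w) :
    ∃ z : Spec (CommRingCat.of A) ⟶ X, Spec.map (CommRingCat.ofHom g) ≫ z = w := by
  classical
  let s : {a : A // ∃ U : X.Opens, IsAffineOpen U ∧
      ∀ q : PrimeSpectrum A', q ∈ PrimeSpectrum.basicOpen (g a) → w.base q ∈ U} → CommRingCat.of A :=
    fun a => a.1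
  have hspan : Ideal.span (Set.range s) = ⊤ := by
    by_contra hne
    obtain ⟨M, hM, hle⟩ := Ideal.exists_le_maximal _ hne
    let p : PrimeSpectrum A := ⟨M, hM.isPrime⟩
    obtain ⟨q, hq⟩ := hs p
    obtain ⟨U, hU, hqU, -⟩ := X.isBasis_affineOpens.exists_subset_of_mem_open
      (Set.mem_univ (w.base q)) isOpen_univ
    obtain ⟨U, hUaff, rfl⟩ := hU
    obtain ⟨_, ⟨x, rfl⟩, hqx, hsub⟩ := PrimeSpectrum.isTopologicalBasis_basic_opens.exists_subset_of_mem_open
      (u := w.base ⁻¹' (U : Set X)) (show q ∈ w.base ⁻¹' (U : Set X) from hqU) (U.2.preimage w.continuous)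
    obtain ⟨a, ha⟩ := hnil x
    have hiff : ∀ r : PrimeSpectrum A', g a ∉ r.asIdeal ↔ x ∉ r.asIdeal := fun r => by
      have : x - g a ∈ r.asIdeal := by
        obtain ⟨m, hm⟩ := ha
        exact r.isPrime.mem_of_pow_mem m (by rw [hm]; exact zero_mem _)
      exact not_congr ⟨fun h => by simpa using add_mem this h, fun h => by simpa using sub_mem h this⟩
    refine (hiff q).mpr hqx ?_
    have : a ∈ p.asIdeal := hle (Ideal.subset_span ⟨⟨a, U, hUaff, fun r hr => hsub ((hiff r).mp hr)⟩, rfl⟩)
    rwa [← hq] at this
  let 𝒰 := (Scheme.affineOpenCoverOfSpanRangeEqTop s hspan).openCover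
  -- the local descents
  have hloc : ∀ i : {a : A // ∃ U : X.Opens, IsAffineOpen U ∧
      ∀ q : PrimeSpectrum A', q ∈ PrimeSpectrum.basicOpen (g a) → w.base q ∈ U},
      ∃ z : Spec (CommRingCat.of (Localization.Away i.1)) ⟶ X,
        Spec.map (CommRingCat.ofHom (locMap g i.1 (g i.1) rfl)) ≫ z =
          Spec.map (CommRingCat.ofHom (algebraMap A' (Localization.Away (g i.1)))) ≫ w := by
    rintro ⟨a, U, hU, hsub⟩
    let c := Spec.map (CommRingCat.ofHom (algebraMap A' (Localization.Away (g a)))) ≫ w
    have hr : Set.range c.base ⊆ Set.range hU.fromSpec.base := by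
      rw [hU.range_fromSpec]
      rintro _ ⟨q, rfl⟩
      exact hsub _ ((PrimeSpectrum.localization_away_comap_range (Localization.Away (g a)) (g a)).le ⟨q, rfl⟩)
    let φ := Spec.preimage (IsOpenImmersion.lift hU.fromSpec c hr)
    have hφ : Spec.map φ ≫ hU.fromSpec = c := by
      rw [Spec.map_preimage, IsOpenImmersion.lift_fac]
    have heq : ∀ (p q : A' →+* C) (hpq : q (g a) = p (g a)),
        Spec.map (CommRingCat.ofHom p) ≫ w = Spec.map (CommRingCat.ofHom q) ≫ w →
        ∀ r, locMap p (g a) _ rfl (φ r) = locMap q (g a) _ hpq (φ r) := by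
      intro p q hpq hpw r
      have e : φ ≫ CommRingCat.ofHom (locMap p (g a) _ rfl) = φ ≫ CommRingCat.ofHom (locMap q (g a) _ hpq) := by
        apply Spec.map_injective
        rw [← cancel_mono hU.fromSpec, Spec.map_comp, Spec.map_comp, Category.assoc, Category.assoc, hφ]
        dsimp only [c]
        rw [← Category.assoc, ← Category.assoc, specMap_locMap, specMap_locMap, Category.assoc,
          Category.assoc, hpw]
      exact congr($(e).hom r)
    have hmem : ∀ r, φ r ∈ (locMap g a (g a) rfl).range := fun r =>
      mem_range_locMap g p₁ q₁ p₂ q₂ hp₁ hp₂ hex a _ (heq p₁ q₁ (hp₁ a) hw₁ r) (heq p₂ q₂ (hp₂ a) hw₂ r)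
    let e := RingEquiv.ofBijective (locMap g a (g a) rfl).rangeRestrict
      ⟨fun x y h => locMap_injective g hg a (congrArg Subtype.val h), RingHom.rangeRestrict_surjective _⟩
    let ψ : Γ(X, U) ⟶ CommRingCat.of (Localization.Away a) :=
      CommRingCat.ofHom (e.symm.toRingHom.comp (φ.hom.codRestrict _ hmem))
    refine ⟨Spec.map ψ ≫ hU.fromSpec, ?_⟩
    have hψ : ψ ≫ CommRingCat.ofHom (locMap g a (g a) rfl) = φ := by
      ext r
      exact congrArg Subtype.val (e.apply_symm_apply ⟨φ r, hmem r⟩)
    rw [← Category.assoc, ← Spec.map_comp, hψ, hφ]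
  choose z hz using hloc
  refine ⟨𝒰.glueMorphisms z fun i j => ?_, ?_⟩
  · -- agreement on overlaps
    let a : A := i.1
    let b : A := j.1
    let cab := Spec.map (CommRingCat.ofHom (algebraMap A (Localization.Away (a * b))))
    have hua : IsUnit (algebraMap A (Localization.Away (a * b)) a) :=
      isUnit_of_mul_isUnit_left (y := algebraMap A (Localization.Away (a * b)) b)
        (by rw [← map_mul]; exact IsLocalization.Away.algebraMap_isUnit _)
    have hub : IsUnit (algebraMap A (Localization.Away (a * b)) b) :=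
      isUnit_of_mul_isUnit_right (x := algebraMap A (Localization.Away (a * b)) a)
        (by rw [← map_mul]; exact IsLocalization.Away.algebraMap_isUnit _)
    let li : Spec (CommRingCat.of (Localization.Away (a * b))) ⟶ Spec (CommRingCat.of (Localization.Away a)) :=
      Spec.map (CommRingCat.ofHom (IsLocalization.Away.lift a
        (g := algebraMap A (Localization.Away (a * b)))
        hua))
    let lj : Spec (CommRingCat.of (Localization.Away (a * b))) ⟶ Spec (CommRingCat.of (Localization.Away b)) :=
      Spec.map (CommRingCat.ofHom (IsLocalization.Away.lift b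
        (g := algebraMap A (Localization.Away (a * b)))
        hub))
    have hli : li ≫ Spec.map (CommRingCat.ofHom (algebraMap A (Localization.Away a))) = cab := by
      exact specMap_awayLift a _ hua
    have hlj : lj ≫ Spec.map (CommRingCat.ofHom (algebraMap A (Localization.Away b))) = cab := by
      exact specMap_awayLift b _ hub
    have hagree : li ≫ z i = lj ≫ z j := by
      refine spec_hom_ext_injective (locMap g (a * b) (g (a * b)) rfl) ?_ ?_ _ _ ?_
      · intro p
        obtain ⟨q, hq⟩ := hs (PrimeSpectrum.comap (algebraMap A (Localization.Away (a * b))) p)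
        have hab : g (a * b) ∉ q.asIdeal := by
          intro hmem
          have h' : a * b ∈ (PrimeSpectrum.comap g q).asIdeal := hmem
          rw [hq] at h'
          exact p.isPrime.ne_top (Ideal.eq_top_of_isUnit_mem _ h' (IsLocalization.Away.algebraMap_isUnit _))
        obtain ⟨q', hq'⟩ : q ∈ Set.range (PrimeSpectrum.comap (algebraMap A' (Localization.Away (g (a * b))))) := by
          rw [PrimeSpectrum.localization_away_comap_range (Localization.Away (g (a * b))) (g (a * b))]
          exact hab
        refine ⟨q', PrimeSpectrum.localization_comap_injective (Localization.Away (a * b))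
          (Submonoid.powers (a * b)) ?_⟩
        rw [← hq, ← hq', ← PrimeSpectrum.comap_comp_apply, ← PrimeSpectrum.comap_comp_apply]
        congr 1
        exact RingHom.ext fun x => locMap_algebraMap g (a * b) _ rfl x
      · exact fun x hx => locMap_injective g hg (a * b) (hx.trans (map_zero _).symm)
      · have side : ∀ (i : {a : A // ∃ U : X.Opens, IsAffineOpen U ∧
            ∀ q : PrimeSpectrum A', q ∈ PrimeSpectrum.basicOpen (g a) → w.base q ∈ U})
            (hu : IsUnit (algebraMap A (Localization.Away (a * b)) i.1)),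
            Spec.map (CommRingCat.ofHom (locMap g (a * b) (g (a * b)) rfl)) ≫
              Spec.map (CommRingCat.ofHom (IsLocalization.Away.lift i.1 (g := algebraMap A (Localization.Away (a * b))) hu)) ≫
                z i =
            Spec.map (CommRingCat.ofHom (algebraMap A' (Localization.Away (g (a * b))))) ≫ w := by
          intro i hu
          have hu' : IsUnit (algebraMap A' (Localization.Away (g (a * b))) (g i.1)) := by
            have := hu.map (locMap g (a * b) (g (a * b)) rfl)
            rwa [locMap_algebraMap] at this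
          have e : CommRingCat.ofHom (IsLocalization.Away.lift i.1 (g := algebraMap A (Localization.Away (a * b))) hu) ≫
              CommRingCat.ofHom (locMap g (a * b) (g (a * b)) rfl) =
              CommRingCat.ofHom (locMap g i.1 (g i.1) rfl) ≫
                CommRingCat.ofHom (IsLocalization.Away.lift (g i.1)
                  (g := algebraMap A' (Localization.Away (g (a * b)))) hu') := by
            apply CommRingCat.hom_ext
            refine IsLocalization.ringHom_ext (Submonoid.powers i.1) (RingHom.ext fun x => ?_)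
            simp only [CommRingCat.hom_comp, CommRingCat.hom_ofHom, RingHom.comp_apply,
              IsLocalization.Away.lift_eq, locMap_algebraMap]
          rw [← Category.assoc, ← Spec.map_comp, e, Spec.map_comp, Category.assoc, hz i, ← Category.assoc,
            ← Spec.map_comp]
          congr 2
          apply CommRingCat.hom_ext
          exact IsLocalization.Away.lift_comp _ hu'
        exact (side i hua).trans (side j hub).symm
    haveI : IsOpenImmersion cab := IsOpenImmersion.of_isLocalization (a * b)
    have hrange : Set.range cab.base = Set.range (pullback.fst (𝒰.f i) (𝒰.f j) ≫ 𝒰.f i).base := by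
      rw [IsOpenImmersion.range_pullback_to_base_of_left]
      refine (PrimeSpectrum.localization_away_comap_range (Localization.Away (a * b)) (a * b)).trans ?_
      rw [PrimeSpectrum.basicOpen_mul]
      exact congrArg₂ (· ∩ ·) (PrimeSpectrum.localization_away_comap_range (Localization.Away a) a).symm
        (PrimeSpectrum.localization_away_comap_range (Localization.Away b) b).symm
    let e := IsOpenImmersion.isoOfRangeEq cab (pullback.fst (𝒰.f i) (𝒰.f j) ≫ 𝒰.f i) hrange
    rw [← cancel_epi e.hom, ← Category.assoc, ← Category.assoc]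
    have h1 : e.hom ≫ pullback.fst (𝒰.f i) (𝒰.f j) = li := by
      rw [← cancel_mono (𝒰.f i), Category.assoc, IsOpenImmersion.isoOfRangeEq_hom_fac]
      exact hli.symm
    have h2 : e.hom ≫ pullback.snd (𝒰.f i) (𝒰.f j) = lj := by
      rw [← cancel_mono (𝒰.f j), Category.assoc, ← pullback.condition, IsOpenImmersion.isoOfRangeEq_hom_fac]
      exact hlj.symm
    rw [h1, h2]
    exact hagree
  · -- the composite
    have hspan' : Ideal.span (Set.range fun i => (g (s i) : CommRingCat.of A')) = ⊤ := by
      have h := congrArg (Ideal.map g) hspan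
      rw [Ideal.map_span, Ideal.map_top, ← Set.range_comp] at h
      exact h
    refine Scheme.Cover.hom_ext (Scheme.affineOpenCoverOfSpanRangeEqTop _ hspan').openCover _ _ fun i => ?_
    change Spec.map (CommRingCat.ofHom (algebraMap A' (Localization.Away (g i.1)))) ≫ Spec.map (CommRingCat.ofHom g) ≫ _ =
      Spec.map (CommRingCat.ofHom (algebraMap A' (Localization.Away (g i.1)))) ≫ w
    rw [← Category.assoc, ← specMap_locMap g i.1 (g i.1) rfl, Category.assoc, ← hz i]
    exact congrArg (Spec.map (CommRingCat.ofHom (locMap g i.1 (g i.1) rfl)) ≫ ·) (𝒰.ι_glueMorphisms z _ i)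

end Groth.Agent.LieSL

end
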