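import Groth.Agent.Lib.LieS.Mul
import Groth.Agent.Lib.LieS.Descent

/-!
The bracket on `Lie(G/S)(T)`: existence, bilinearity, `[x, x] = 1` and the Jacobi identity.
For a ring map `h : B → R` and `c : R` of square zero, `sub f h c` is the map `Spec R → I_T`, `ε ↦ c`.
-/

universe u

open CategoryTheory AlgebraicGeometry TrivSqZeroExt
open scoped MonObj

set_option backward.isDefEq.respectTransparency false
set_option maxSynthPendingDepth 5

noncomputable section

namespace Groth.Agent.LieSL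

variable {S : Scheme.{u}} {B R R' : Type u} [CommRing B] [CommRing R] [CommRing R']
  (f : Spec (CommRingCat.of B) ⟶ S)

theorem hom_dualNumber_ext {φ ψ : DualNumber B →+* R} (h₁ : ∀ b, φ (inl b) = ψ (inl b))
    (h₂ : φ DualNumber.eps = ψ DualNumber.eps) : φ = ψ := by
  refine RingHom.ext fun x => ?_
  have e : x = inl x.fst + inl x.snd * DualNumber.eps := TrivSqZeroExt.ext (by simp) (by simp)
  rw [e, map_add, map_add, map_mul, map_mul, h₁, h₁, h₂]

/-- `Spec R` over `S` -/
def tPt (h : B →+* R) : Over S := Over.mk (Spec.map (CommRingCat.ofHom h) ≫ f)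

/-- `ε ↦ c` -/
def sub (h : B →+* R) (c : R) (hc : c * c = 0) : tPt f h ⟶ LieS.dpt B f :=
  Over.homMk (Spec.map (CommRingCat.ofHom (LieS.dualHom h c hc))) (by
    change Spec.map _ ≫ Spec.map _ ≫ f = Spec.map _ ≫ f
    rw [← Category.assoc, LieS.specMap_comp, LieS.dualHom_comp_algebraMap])

/-- maps between the test schemes -/
def tMap {h : B →+* R} {h' : B →+* R'} (r : R →+* R') (hr : r.comp h = h') : tPt f h' ⟶ tPt f h :=
  Over.homMk (Spec.map (CommRingCat.ofHom r)) (by
    change Spec.map _ ≫ Spec.map _ ≫ f = Spec.map _ ≫ f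
    rw [← Category.assoc, LieS.specMap_comp, hr])

theorem sub_ext {h : B →+* R} (φ : tPt f h ⟶ LieS.dpt B f) {c : R} (hc : c * c = 0)
    (ψ : DualNumber B →+* R) (hφ : φ.left = Spec.map (CommRingCat.ofHom ψ))
    (h₁ : ∀ b, ψ (inl b) = h b) (h₂ : ψ DualNumber.eps = c) : φ = sub f h c hc := by
  ext : 1
  rw [hφ]
  change Spec.map _ = Spec.map _
  congr 2
  exact hom_dualNumber_ext (fun b => by simp [h₁]) (by simp [h₂])

theorem tMap_sub {h : B →+* R} {h' : B →+* R'} (r : R →+* R') (hr : r.comp h = h') (c : R)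
    (hc : c * c = 0) {c' : R'} (hc' : c' * c' = 0) (hcc : r c = c') :
    tMap f r hr ≫ sub f h c hc = sub f h' c' hc' := by
  refine sub_ext f _ hc' (r.comp (LieS.dualHom h c hc)) ?_ (fun b => ?_) ?_
  · change Spec.map _ ≫ Spec.map _ = _
    rw [LieS.specMap_comp]
  · simp [← hr]
  · simp [← hcc]

theorem sub_congr (h : B →+* R) {c c' : R} (e : c = c') (hc : c * c = 0) (hc' : c' * c' = 0) :
    sub f h c hc = sub f h c' hc' := by subst e; rfl

theorem sub_scale (h : B →+* R) (c : R) (hc : c * c = 0) (b : B) :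
    sub f h c hc ≫ LieS.scale B f b =
      sub f h (h b * c) (by rw [mul_mul_mul_comm, hc, mul_zero]) := by
  refine sub_ext f _ _ ((LieS.dualHom h c hc).comp (LieS.scaleHom b)) ?_ (fun b' => ?_) ?_
  · change Spec.map _ ≫ Spec.map _ = _
    rw [LieS.specMap_comp]
  · simp [LieS.scaleHom, algebraMap_eq_inl']
  · simp [LieS.scaleHom, algebraMap_eq_inl']

theorem sub_zero_factor (h : B →+* R) :
    ∃ t : tPt f h ⟶ LieS.pt B f, t ≫ LieS.zeroSec B f = sub f h 0 (mul_zero 0) := by
  refine ⟨Over.homMk (Spec.map (CommRingCat.ofHom h)) rfl, ?_⟩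
  refine sub_ext f _ _ (h.comp (fstHom B B B).toRingHom) ?_ (fun b => ?_) ?_
  · change Spec.map _ ≫ Spec.map _ = _
    rw [LieS.specMap_comp]
  · simp
  · simp

variable (G : Over S) [GrpObj G]

/-- `x⟨c⟩` -/
def at' (h : B →+* R) (c : R) (hc : c * c = 0) : LieS.Lie G B f →* (tPt f h ⟶ G) where
  toFun x := sub f h c hc ≫ x.1
  map_one' := MonObj.comp_one _
  map_mul' x y := MonObj.comp_mul _ _ _

theorem at'_apply (h : B →+* R) (c : R) (hc : c * c = 0) (x : LieS.Lie G B f) :
    at' f G h c hc x = sub f h c hc ≫ x.1 := rfl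

theorem at'_congr (h : B →+* R) {c c' : R} (e : c = c') (hc : c * c = 0) (hc' : c' * c' = 0)
    (x : LieS.Lie G B f) : at' f G h c hc x = at' f G h c' hc' x := by subst e; rfl

theorem at'_zero (h : B →+* R) (hc : (0 : R) * 0 = 0) (x : LieS.Lie G B f) : at' f G h 0 hc x = 1 := by
  obtain ⟨t, ht⟩ := sub_zero_factor f h
  rw [at'_apply, ← ht, Category.assoc, (LieS.mem_Lie_iff G B f x.1).1 x.2, MonObj.comp_one]

theorem tMap_at' {h : B →+* R} {h' : B →+* R'} (r : R →+* R') (hr : r.comp h = h') (c : R)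
    (hc : c * c = 0) {c' : R'} (hc' : c' * c' = 0) (hcc : r c = c') (x : LieS.Lie G B f) :
    tMap f r hr ≫ at' f G h c hc x = at' f G h' c' hc' x := by
  rw [at'_apply, at'_apply, ← Category.assoc, tMap_sub f r hr c hc hc' hcc]

theorem at'_smul (h : B →+* R) (c : R) (hc : c * c = 0) (b : B) (x : LieS.Lie G B f) :
    at' f G h c hc (b • x) = at' f G h (h b * c) (by rw [mul_mul_mul_comm, hc, mul_zero]) x := by
  rw [at'_apply, at'_apply, LieS.smul_val, ← Category.assoc, sub_scale]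

variable (B) in
/-- `ε` in `B[ε][ε']` -/
def e₁ : LieS.D2 B := algebraMap (DualNumber B) (LieS.D2 B) DualNumber.eps

variable (B) in
/-- `ε'` in `B[ε][ε']` -/
def e₂ : LieS.D2 B := DualNumber.eps

theorem e₁_sq : e₁ B * e₁ B = 0 := by rw [e₁, ← map_mul, LieS.eps_sq, map_zero]

theorem e₂_sq : e₂ B * e₂ B = 0 := LieS.eps_sq _

theorem e₁₂_sq : e₁ B * e₂ B * (e₁ B * e₂ B) = 0 := by rw [mul_mul_mul_comm, e₁_sq, zero_mul]

/-- `d2pt` as a test scheme -/
def d2Iso : tPt (R := LieS.D2 B) f (LieS.toD2 B) ≅ LieS.d2pt B f :=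
  Over.isoMk (Iso.refl (Spec (CommRingCat.of (LieS.D2 B)))) (by
    change 𝟙 _ ≫ Spec.map _ ≫ Spec.map _ ≫ f = Spec.map _ ≫ f
    rw [Category.id_comp, ← Category.assoc, LieS.specMap_comp])

theorem d2Iso_mulMap : (d2Iso f).hom ≫ LieS.mulMap B f = sub (R := LieS.D2 B) f (LieS.toD2 B) (e₁ B * e₂ B) e₁₂_sq := by
  refine sub_ext f _ _ (LieS.mulHom B) ?_ (fun b => ?_) ?_
  · change 𝟙 _ ≫ Spec.map _ = _
    rw [Category.id_comp]
  · simp [LieS.mulHom]
  · simp [LieS.mulHom, e₁, e₂]

theorem d2Iso_dptMap :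
    (d2Iso f).hom ≫ LieS.dptMap f (algebraMap B (DualNumber B)) = sub (R := LieS.D2 B) f (LieS.toD2 B) (e₂ B) e₂_sq := by
  refine sub_ext f _ _ (LieS.bcHom (algebraMap B (DualNumber B))) ?_ (fun b => ?_) ?_
  · change 𝟙 _ ≫ Spec.map _ = _
    rw [Category.id_comp]
  · simp [LieS.bcHom]
  · simp [LieS.bcHom, e₂]

theorem d2Iso_proj :
    (d2Iso f).hom ≫ LieS.proj (DualNumber B) (LieS.dpt B f).hom = sub (R := LieS.D2 B) f (LieS.toD2 B) (e₁ B) e₁_sq := by
  refine sub_ext f _ _ (algebraMap (DualNumber B) (LieS.D2 B)) ?_ (fun b => ?_) ?_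
  · change 𝟙 _ ≫ Spec.map _ = _
    rw [Category.id_comp]
  · simp [algebraMap_eq_inl']
  · rfl

theorem isBracket_iff (x y z : LieS.Lie G B f) :
    LieS.IsBracket G B f x y z ↔
      at' (R := LieS.D2 B) f G (LieS.toD2 B) (e₁ B * e₂ B) e₁₂_sq z =
        at' (R := LieS.D2 B) f G (LieS.toD2 B) (e₂ B) e₂_sq x * at' (R := LieS.D2 B) f G (LieS.toD2 B) (e₁ B) e₁_sq y *
          (at' (R := LieS.D2 B) f G (LieS.toD2 B) (e₂ B) e₂_sq x)⁻¹ * (at' (R := LieS.D2 B) f G (LieS.toD2 B) (e₁ B) e₁_sq y)⁻¹ := by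
  unfold LieS.IsBracket
  rw [← cancel_epi (d2Iso f).hom, MonObj.comp_mul, MonObj.comp_mul, MonObj.comp_mul,
    GrpObj.comp_inv, GrpObj.comp_inv]
  simp only [← Category.assoc, d2Iso_mulMap, d2Iso_dptMap, d2Iso_proj, at'_apply]

theorem at'_e₁₂_injective :
    Function.Injective (at' (R := LieS.D2 B) f G (LieS.toD2 B) (e₁ B * e₂ B) e₁₂_sq) := fun x y h => Subtype.ext (by
  refine mulMap_cancel f ?_
  rw [← cancel_epi (d2Iso f).hom, ← Category.assoc, ← Category.assoc, d2Iso_mulMap]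
  exact h)

variable (B) in
/-- `B[ε₁][ε₂][ε₃]` -/
abbrev D3 : Type u := DualNumber (LieS.D2 B)

theorem at'_eps₁₂₃_injective (h : (algebraMap (LieS.D2 B) (D3 B) (e₁ B * e₂ B) * DualNumber.eps) *
      (algebraMap (LieS.D2 B) (D3 B) (e₁ B * e₂ B) * DualNumber.eps) = 0) :
    Function.Injective (at' f G ((algebraMap (LieS.D2 B) (D3 B)).comp (LieS.toD2 B))
      (algebraMap (LieS.D2 B) (D3 B) (e₁ B * e₂ B) * DualNumber.eps) h) := by
  intro x y hxy
  refine Subtype.ext ?_
  ext : 1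
  refine spec_hom_ext_injective (LieS.dualHom ((algebraMap (LieS.D2 B) (D3 B)).comp (LieS.toD2 B))
    (algebraMap (LieS.D2 B) (D3 B) (e₁ B * e₂ B) * DualNumber.eps) h) ?_ ?_ _ _ (congrArg CommaMorphism.left hxy)
  · intro p
    obtain ⟨q, hq⟩ := comap_fstHom_surjective (R := B) p
    refine ⟨PrimeSpectrum.comap (((fstHom B B B).toRingHom.comp
      (fstHom (DualNumber B) (DualNumber B) (DualNumber B)).toRingHom).comp
      (fstHom (LieS.D2 B) (LieS.D2 B) (LieS.D2 B)).toRingHom) q, ?_⟩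
    rw [← PrimeSpectrum.comap_comp_apply, ← hq]
    congr 1
    exact RingHom.ext fun a => by simp [algebraMap_eq_inl']
  · intro c hc
    have a1 := congrArg (fun w => fst (fst (fst w))) hc
    have a2 := congrArg (fun w => snd (snd (snd w))) hc
    simp [algebraMap_eq_inl', e₁, e₂] at a1 a2
    exact TrivSqZeroExt.ext (by simpa using a1) (by simpa using a2)

/-- the axis `ε' = 0` -/
def ax₁ : LieS.D2 B →+* DualNumber B :=
  (fstHom (DualNumber B) (DualNumber B) (DualNumber B)).toRingHom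

/-- the axis `ε = 0` -/
def ax₂ : LieS.D2 B →+* DualNumber B := LieS.dualHom
  ((algebraMap B (DualNumber B)).comp (fstHom B B B).toRingHom) DualNumber.eps (LieS.eps_sq B)

/-- the origin -/
def ax₀ : LieS.D2 B →+* DualNumber B :=
  (algebraMap B (DualNumber B)).comp
    ((fstHom B B B).toRingHom.comp (fstHom (DualNumber B) (DualNumber B) (DualNumber B)).toRingHom)

theorem ax₁_comp : ax₁.comp (LieS.toD2 B) = algebraMap B (DualNumber B) :=
  RingHom.ext fun b => by simp [ax₁, algebraMap_eq_inl']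

theorem ax₂_comp : ax₂.comp (LieS.toD2 B) = algebraMap B (DualNumber B) :=
  RingHom.ext fun b => by simp [ax₂, algebraMap_eq_inl']

theorem ax₀_comp : ax₀.comp (LieS.toD2 B) = algebraMap B (DualNumber B) :=
  RingHom.ext fun b => by simp [ax₀, algebraMap_eq_inl']

theorem nil_D2 (x : LieS.D2 B) : IsNilpotent (x - LieS.toD2 B x.fst.fst) := by
  refine ⟨3, ?_⟩
  have e : x - LieS.toD2 B x.fst.fst = inl (inr x.fst.snd) + inr x.snd := by
    refine TrivSqZeroExt.ext (TrivSqZeroExt.ext ?_ ?_) ?_ <;> simp [algebraMap_eq_inl']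
  have h1 : (inl (inr x.fst.snd) : LieS.D2 B) * inl (inr x.fst.snd) = 0 := by
    rw [inl_mul_inl, inr_mul_inr]; exact inl_zero _
  have h2 : (inr x.snd : LieS.D2 B) * inr x.snd = 0 := inr_mul_inr _ _ _
  rw [e]
  generalize (inl (inr x.fst.snd) : LieS.D2 B) = a, (inr x.snd : LieS.D2 B) = b at h1 h2 ⊢
  linear_combination (a + 3 * b) * h1 + (3 * a + b) * h2

theorem exists_bracket (x y : LieS.Lie G B f) : ∃ z, LieS.IsBracket G B f x y z := by
  let C := at' (R := LieS.D2 B) f G (LieS.toD2 B) (e₂ B) e₂_sq x * at' (R := LieS.D2 B) f G (LieS.toD2 B) (e₁ B) e₁_sq y *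
    (at' (R := LieS.D2 B) f G (LieS.toD2 B) (e₂ B) e₂_sq x)⁻¹ * (at' (R := LieS.D2 B) f G (LieS.toD2 B) (e₁ B) e₁_sq y)⁻¹
  have hax : ∀ (r : LieS.D2 B →+* DualNumber B) (hr : r.comp (LieS.toD2 B) = algebraMap B (DualNumber B)),
      (r (e₁ B) = 0 ∨ r (e₂ B) = 0) → tMap f r hr ≫ C = 1 := by
    intro r hr h0
    simp only [C, MonObj.comp_mul, GrpObj.comp_inv]
    rcases h0 with h0 | h0
    · rw [tMap_at' f G r hr (e₁ B) e₁_sq (c' := 0) (mul_zero 0) h0, at'_zero]
      group
    · rw [tMap_at' f G r hr (e₂ B) e₂_sq (c' := 0) (mul_zero 0) h0, at'_zero]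
      group
  obtain ⟨z, hz⟩ := exists_factor (X := G.left) (LieS.mulHom B) mulHom_injective mulHom_comap_surjective
    (fun w => ⟨inl w.fst.fst, by
      have : LieS.mulHom B (inl w.fst.fst) = LieS.toD2 B w.fst.fst := by simp [LieS.mulHom]
      rw [this]; exact nil_D2 w⟩)
    ax₁ ax₀ ax₂ ax₀
    (fun a => by simp [ax₁, ax₀, LieS.mulHom, algebraMap_eq_inl'])
    (fun a => by simp [ax₂, ax₀, LieS.mulHom, algebraMap_eq_inl'])
    (fun w h₁ h₂ => by
      refine ⟨inl w.fst.fst + inr w.snd.snd, ?_⟩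
      have a1 := congrArg snd h₁
      have a2 := congrArg snd h₂
      simp [ax₁, ax₂, ax₀, algebraMap_eq_inl'] at a1 a2
      refine TrivSqZeroExt.ext (TrivSqZeroExt.ext ?_ ?_) (TrivSqZeroExt.ext ?_ ?_) <;>
        simp [LieS.mulHom, algebraMap_eq_inl', a1, a2])
    C.left
    (congrArg CommaMorphism.left ((hax ax₁ ax₁_comp (Or.inr (by simp [ax₁, e₂]))).trans
      (hax ax₀ ax₀_comp (Or.inr (by simp [ax₀, e₂]))).symm))
    (congrArg CommaMorphism.left ((hax ax₂ ax₂_comp (Or.inl (by simp [ax₂, e₁, algebraMap_eq_inl']))).trans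
      (hax ax₀ ax₀_comp (Or.inr (by simp [ax₀, e₂]))).symm))
  have hz' : z ≫ G.hom = (LieS.dpt B f).hom := by
    refine spec_hom_ext_injective (LieS.mulHom B) (fun p => mulHom_comap_surjective p) mulHom_eq_zero _ _ ?_
    rw [← Category.assoc, hz]
    refine (Over.w C).trans ?_
    change Spec.map _ ≫ f = Spec.map _ ≫ Spec.map _ ≫ f
    rw [← Category.assoc, LieS.specMap_comp, LieS.mulHom_comp_algebraMap]
  let z' : LieS.dpt B f ⟶ G := Over.homMk z hz'
  have hC : (d2Iso f).hom ≫ LieS.mulMap B f ≫ z' = C := by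
    ext : 1
    change 𝟙 _ ≫ Spec.map (CommRingCat.ofHom (LieS.mulHom B)) ≫ z = C.left
    rw [Category.id_comp, hz]
  have hzero : LieS.zeroSec B f ≫ z' = 1 := by
    -- compare both sides at the origin of `B[ε][ε']`
    have h0 := hax ax₀ ax₀_comp (Or.inr (by simp [ax₀, e₂]))
    rw [← hC, ← Category.assoc (d2Iso f).hom, d2Iso_mulMap, ← Category.assoc,
      tMap_sub (R := LieS.D2 B) (R' := DualNumber B) f ax₀ ax₀_comp _ e₁₂_sq (c' := 0) (mul_zero 0) (by simp [ax₀, e₁, e₂])] at h0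
    let s : LieS.pt B f ⟶ tPt f (algebraMap B (DualNumber B)) :=
      Over.homMk (LieS.zeroSec B f).left (Over.w (LieS.zeroSec B f))
    have h1 := congrArg (s ≫ ·) h0
    rw [MonObj.comp_one, ← Category.assoc] at h1
    refine Eq.trans ?_ h1
    congr 1
    ext : 1
    change Spec.map _ = Spec.map _ ≫ Spec.map _
    rw [LieS.specMap_comp]
    congr 2
    exact hom_dualNumber_ext (fun b => by simp [algebraMap_eq_inl']) (by simp)
  refine ⟨⟨z', hzero⟩, ?_⟩
  rw [isBracket_iff, at'_apply, ← d2Iso_mulMap, Category.assoc]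
  exact hC

/-- the bracket -/
def brk (x y : LieS.Lie G B f) : LieS.Lie G B f := (exists_bracket f G x y).choose

theorem isBracket_brk (x y : LieS.Lie G B f) : LieS.IsBracket G B f x y (brk f G x y) :=
  (exists_bracket f G x y).choose_spec

/-- `B[ε][ε'] → R`, `ε ↦ d`, `ε' ↦ c` -/
def subHom (h : B →+* R) (c d : R) (hc : c * c = 0) (hd : d * d = 0) : LieS.D2 B →+* R :=
  LieS.dualHom (LieS.dualHom h d hd) c hc

/-- the commutator relation over any ring -/
theorem commutator (h : B →+* R) (c d : R) (hc : c * c = 0) (hd : d * d = 0) (x y : LieS.Lie G B f) :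
    at' f G h c hc x * at' f G h d hd y =
      at' f G h (c * d) (by rw [mul_mul_mul_comm, hc, zero_mul]) (brk f G x y) *
        at' f G h d hd y * at' f G h c hc x := by
  have hr : (subHom h c d hc hd).comp (LieS.toD2 B) = h :=
    RingHom.ext fun b => by simp [subHom, algebraMap_eq_inl']
  have e := congrArg (tMap f (subHom h c d hc hd) hr ≫ ·) ((isBracket_iff f G x y _).1 (isBracket_brk f G x y))
  simp only [MonObj.comp_mul, GrpObj.comp_inv] at e
  rw [tMap_at' f G _ hr (e₂ B) e₂_sq hc (by simp [subHom, e₂]),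
    tMap_at' f G _ hr (e₁ B) e₁_sq hd (by simp [subHom, e₁, algebraMap_eq_inl']),
    tMap_at' f G _ hr (e₁ B * e₂ B) e₁₂_sq (c' := c * d) (by rw [mul_mul_mul_comm, hc, zero_mul])
      (by simp [subHom, e₁, e₂, algebraMap_eq_inl', mul_comm])] at e
  rw [e]
  group

theorem at'_comm (h : B →+* R) (c d : R) (hc : c * c = 0) (hd : d * d = 0) (hcd : c * d = 0)
    (x y : LieS.Lie G B f) : Commute (at' f G h c hc x) (at' f G h d hd y) := by
  have e := commutator f G h c d hc hd x y
  rw [at'_congr f G h hcd _ (mul_zero 0), at'_zero, one_mul] at e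
  exact e

attribute [local irreducible] at' brk sub

theorem lie_comm (x y : LieS.Lie G B f) : x * y = y * x := by
  have hk := ker_mul_comm f (isKer_of_zeroSec f x.2) (isKer_of_zeroSec f y.2)
  exact Subtype.ext hk

theorem grp_left {M : Type*} [Group M] {X X' Y Z Z' W : M} (hx : X * Y = Z * Y * X) (hx' : X' * Y = Z' * Y * X')
    (h1 : X * X' * Y = W * Y * (X * X')) (c1 : Commute X Z') (c2 : Commute Z Z') : W = Z * Z' := by
  have key : X * X' * Y = Z * Z' * Y * (X * X') :=
    calc X * X' * Y = X * (Z' * Y * X') := by rw [mul_assoc, hx']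
      _ = X * Z' * Y * X' := by simp only [mul_assoc]
      _ = Z' * (X * Y) * X' := by rw [c1.eq]; simp only [mul_assoc]
      _ = Z' * Z * Y * (X * X') := by rw [hx]; simp only [mul_assoc]
      _ = Z * Z' * Y * (X * X') := by rw [c2.eq]
  exact mul_right_cancel (mul_right_cancel (h1.symm.trans key))

theorem grp_cancel {M : Type*} [Group M] {X Y W W' : M} (h1 : X * Y = W * Y * X) (h2 : X * Y = W' * Y * X) :
    W = W' := mul_right_cancel (mul_right_cancel (h1.symm.trans h2))

theorem grp_swap {M : Type*} [Group M] {X Y Z W : M} (h1 : X * Y = Z * Y * X) (h2 : Y * X = W * X * Y) :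
    Z * W = 1 := by
  rw [mul_assoc, h2, mul_assoc W, ← mul_assoc] at h1
  exact right_eq_mul.mp h1

theorem at'_brk_mul_left (h : B →+* R) (c d : R) (hc : c * c = 0) (hd : d * d = 0) (hcd : c * d * (c * d) = 0)
    (x x' y : LieS.Lie G B f) : at' f G h (c * d) hcd (brk f G (x * x') y) =
      at' f G h (c * d) hcd (brk f G x y) * at' f G h (c * d) hcd (brk f G x' y) :=
  grp_left (commutator f G h c d hc hd x y) (commutator f G h c d hc hd x' y)
    ((congrArg (· * at' f G h d hd y) (map_mul (at' f G h c hc) x x')).symm.trans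
      ((commutator f G h c d hc hd (x * x') y).trans
        (congrArg (at' f G h (c * d) hcd (brk f G (x * x') y) * at' f G h d hd y * ·) (map_mul (at' f G h c hc) x x'))))
    (at'_comm f G h _ _ hc hcd (by rw [← mul_assoc, hc, zero_mul]) _ _)
    (at'_comm f G h _ _ hcd hcd hcd _ _)

theorem at'_brk_smul_left (h : B →+* R) (c d : R) (hc : c * c = 0) (hd : d * d = 0) (hcd : c * d * (c * d) = 0)
    (b : B) (x y : LieS.Lie G B f) :
    at' f G h (c * d) hcd (brk f G (b • x) y) = at' f G h (c * d) hcd (b • brk f G x y) := by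
  have h0 : (h b * c) * (h b * c) = 0 := by rw [mul_mul_mul_comm, hc, mul_zero]
  have h1 := commutator f G h c d hc hd (b • x) y
  rw [at'_smul] at h1
  refine (grp_cancel h1 (commutator f G h (h b * c) d h0 hd x y)).trans ?_
  rw [at'_smul]
  exact at'_congr f G h (mul_assoc _ _ _) _ _ _

theorem at'_brk_swap (h : B →+* R) (c d : R) (hc : c * c = 0) (hd : d * d = 0) (hcd : c * d * (c * d) = 0)
    (x y : LieS.Lie G B f) :
    at' f G h (c * d) hcd (brk f G x y) * at' f G h (c * d) hcd (brk f G y x) = 1 := by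
  have h2 := commutator f G h d c hd hc y x
  rw [at'_congr f G h (mul_comm d c) _ hcd] at h2
  exact grp_swap (commutator f G h c d hc hd x y) h2

theorem e₂₁_sq : e₂ B * e₁ B * (e₂ B * e₁ B) = 0 := by rw [mul_comm (e₂ B)]; exact e₁₂_sq

theorem at'_e₂₁_injective :
    Function.Injective (at' (R := LieS.D2 B) f G (LieS.toD2 B) (e₂ B * e₁ B) e₂₁_sq) := fun x y h => by
  apply at'_e₁₂_injective f G
  rwa [at'_congr (R := LieS.D2 B) f G (LieS.toD2 B) (mul_comm (e₂ B) (e₁ B)) e₂₁_sq e₁₂_sq,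
    at'_congr (R := LieS.D2 B) f G (LieS.toD2 B) (mul_comm (e₂ B) (e₁ B)) e₂₁_sq e₁₂_sq] at h

theorem brk_mul_left (x x' y : LieS.Lie G B f) : brk f G (x * x') y = brk f G x y * brk f G x' y := by
  apply at'_e₂₁_injective f G
  rw [map_mul]
  exact at'_brk_mul_left (R := LieS.D2 B) f G (LieS.toD2 B) (e₂ B) (e₁ B) e₂_sq e₁_sq e₂₁_sq x x' y

theorem brk_smul_left (b : B) (x y : LieS.Lie G B f) : brk f G (b • x) y = b • brk f G x y := by
  apply at'_e₂₁_injective f G
  exact at'_brk_smul_left (R := LieS.D2 B) f G (LieS.toD2 B) (e₂ B) (e₁ B) e₂_sq e₁_sq e₂₁_sq b x y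

theorem brk_swap (x y : LieS.Lie G B f) : brk f G y x = (brk f G x y)⁻¹ := by
  refine eq_inv_of_mul_eq_one_right ?_
  apply at'_e₂₁_injective f G
  rw [map_mul, map_one]
  exact at'_brk_swap (R := LieS.D2 B) f G (LieS.toD2 B) (e₂ B) (e₁ B) e₂_sq e₁_sq e₂₁_sq x y

theorem brk_self (x : LieS.Lie G B f) : brk f G x x = 1 := by
  apply at'_e₁₂_injective f G
  rw [map_one]
  have h1 := commutator (R := LieS.D2 B) f G (LieS.toD2 B) (e₂ B) (e₁ B) e₂_sq e₁_sq x x
  rw [at'_congr (R := LieS.D2 B) f G (LieS.toD2 B) (mul_comm (e₂ B) (e₁ B)) _ e₁₂_sq] at h1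
  -- `x⟨ε'⟩ x⟨ε⟩` comes from the subring where the two axes agree, hence is symmetric
  let τ : LieS.D2 B →+* LieS.D2 B := subHom (LieS.toD2 B) (e₁ B) (e₂ B) e₁_sq e₂_sq
  have hτ : τ.comp (LieS.toD2 B) = LieS.toD2 B :=
    RingHom.ext fun b => by simp [τ, subHom, algebraMap_eq_inl']
  let A := RingHom.eqLocus (ax₁ (B := B)) ax₂
  have hA : ∀ b, LieS.toD2 B b ∈ A := fun b => by
    change ax₁ (LieS.toD2 B b) = ax₂ (LieS.toD2 B b)
    rw [← RingHom.comp_apply, ← RingHom.comp_apply, ax₁_comp, ax₂_comp]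
  set P := at' (R := LieS.D2 B) f G (LieS.toD2 B) (e₂ B) e₂_sq x * at' (R := LieS.D2 B) f G (LieS.toD2 B) (e₁ B) e₁_sq x with hP
  have hnil : ∀ w : LieS.D2 B, ∃ a : A, IsNilpotent (w - A.subtype a) := fun w =>
    ⟨⟨_, hA w.fst.fst⟩, nil_D2 w⟩
  have hsurj : Function.Surjective (PrimeSpectrum.comap A.subtype) := by
    intro p
    refine ⟨PrimeSpectrum.comap ((fstHom B B B).toRingHom.comp
      (fstHom (DualNumber B) (DualNumber B) (DualNumber B)).toRingHom)
      (PrimeSpectrum.comap ((LieS.toD2 B).codRestrict A hA) p), PrimeSpectrum.ext (Ideal.ext fun a => ?_)⟩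
    have hn : a - ((LieS.toD2 B).codRestrict A hA) (a : LieS.D2 B).fst.fst ∈ p.asIdeal := by
      obtain ⟨n, hn⟩ := nil_D2 (a : LieS.D2 B)
      refine p.isPrime.mem_of_pow_mem n ?_
      have : (a - ((LieS.toD2 B).codRestrict A hA) (a : LieS.D2 B).fst.fst) ^ n = 0 := Subtype.ext hn
      rw [this]; exact zero_mem _
    constructor
    · intro h; simpa using add_mem hn (show ((LieS.toD2 B).codRestrict A hA) (a : LieS.D2 B).fst.fst ∈ p.asIdeal from h)
    · intro h; show ((LieS.toD2 B).codRestrict A hA) _ ∈ p.asIdeal; simpa using sub_mem h hn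
  have e1 : ax₁.comp (LieS.toD2 B) = algebraMap B (DualNumber B) := ax₁_comp
  have hPax : tMap f ax₁ ax₁_comp ≫ P = tMap f ax₂ ax₂_comp ≫ P := by
    rw [hP, MonObj.comp_mul, MonObj.comp_mul,
      tMap_at' f G ax₁ ax₁_comp (e₂ B) e₂_sq (c' := 0) (mul_zero 0) (by simp [ax₁, e₂]),
      tMap_at' f G ax₁ ax₁_comp (e₁ B) e₁_sq (c' := DualNumber.eps) (LieS.eps_sq B) (by simp [ax₁, e₁, algebraMap_eq_inl']),
      tMap_at' f G ax₂ ax₂_comp (e₂ B) e₂_sq (c' := DualNumber.eps) (LieS.eps_sq B) (by simp [ax₂, e₂]),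
      tMap_at' f G ax₂ ax₂_comp (e₁ B) e₁_sq (c' := 0) (mul_zero 0) (by simp [ax₂, e₁, algebraMap_eq_inl']),
      at'_zero, one_mul, mul_one]
  obtain ⟨z, hz⟩ := exists_factor (X := G.left) A.subtype Subtype.val_injective hsurj hnil ax₁ ax₂ ax₁ ax₂
    (fun a => a.2.symm) (fun a => a.2.symm) (fun w h _ => ⟨⟨w, h⟩, rfl⟩) P.left
    (congrArg CommaMorphism.left hPax) (congrArg CommaMorphism.left hPax)
  have hτA : τ.comp A.subtype = A.subtype := RingHom.ext fun ⟨a, ha⟩ => by
    have ha1 := congrArg snd (show ax₁ a = ax₂ a from ha)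
    simp [ax₁, ax₂, algebraMap_eq_inl'] at ha1
    refine TrivSqZeroExt.ext (TrivSqZeroExt.ext ?_ ?_) (TrivSqZeroExt.ext ?_ ?_) <;>
      simp [τ, subHom, e₁, e₂, algebraMap_eq_inl', ha1]
  have hsym : tMap f τ hτ ≫ P = P := by
    ext : 1
    change Spec.map (CommRingCat.ofHom τ) ≫ P.left = P.left
    rw [← hz, ← Category.assoc, LieS.specMap_comp, hτA]
  rw [hP, MonObj.comp_mul,
    tMap_at' f G τ hτ (e₂ B) e₂_sq e₁_sq (by simp [τ, subHom, e₁, e₂]),
    tMap_at' f G τ hτ (e₁ B) e₁_sq e₂_sq (by simp [τ, subHom, e₁, e₂, algebraMap_eq_inl'])] at hsym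
  rw [hP, ← hsym, mul_assoc] at h1
  exact right_eq_mul.mp h1

theorem jacobi (x y z : LieS.Lie G B f) :
    brk f G x (brk f G y z) = brk f G (brk f G x y) z * brk f G y (brk f G x z) := by
  let h : B →+* D3 B := (algebraMap (LieS.D2 B) (D3 B)).comp (LieS.toD2 B)
  let a : D3 B := algebraMap (LieS.D2 B) (D3 B) (e₁ B)
  let b : D3 B := algebraMap (LieS.D2 B) (D3 B) (e₂ B)
  let c : D3 B := DualNumber.eps
  have ha : a * a = 0 := by simp only [a]; rw [← map_mul, e₁_sq, map_zero]
  have hb : b * b = 0 := by simp only [b]; rw [← map_mul, e₂_sq, map_zero]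
  have hc : c * c = 0 := LieS.eps_sq _
  have h3 : (algebraMap (LieS.D2 B) (D3 B) (e₁ B * e₂ B) * DualNumber.eps) *
      (algebraMap (LieS.D2 B) (D3 B) (e₁ B * e₂ B) * DualNumber.eps) = 0 := by
    rw [mul_mul_mul_comm, LieS.eps_sq, mul_zero]
  apply at'_eps₁₂₃_injective f G h3
  have habc : algebraMap (LieS.D2 B) (D3 B) (e₁ B * e₂ B) * DualNumber.eps = a * b * c := by
    simp only [a, b, c, map_mul]
  have hab : a * b * (a * b) = 0 := by rw [mul_mul_mul_comm, ha, zero_mul]
  have hac : a * c * (a * c) = 0 := by rw [mul_mul_mul_comm, ha, zero_mul]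
  have hbc : b * c * (b * c) = 0 := by rw [mul_mul_mul_comm, hb, zero_mul]
  have habc0 : a * b * c * (a * b * c) = 0 := by rw [mul_mul_mul_comm, hc, mul_zero]
  rw [map_mul (at' f G _ _ h3), at'_congr f G _ habc _ habc0, at'_congr f G _ habc _ habc0, at'_congr f G _ habc _ habc0]
  set X := at' f G h a ha x
  set Y := at' f G h b hb y
  set Z := at' f G h c hc z
  set P := at' f G h (a * b) hab (brk f G x y)
  set Q := at' f G h (a * c) hac (brk f G x z)
  set W := at' f G h (b * c) hbc (brk f G y z)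
  set L := at' f G h (a * b * c) habc0 (brk f G x (brk f G y z))
  set M := at' f G h (a * b * c) habc0 (brk f G (brk f G x y) z)
  set N := at' f G h (a * b * c) habc0 (brk f G y (brk f G x z))
  have hXY : X * Y = P * Y * X := commutator f G h a b ha hb x y
  have hXZ : X * Z = Q * Z * X := commutator f G h a c ha hc x z
  have hYZ : Y * Z = W * Z * Y := commutator f G h b c hb hc y z
  have hXW : X * W = L * W * X := by
    have e := commutator f G h a (b * c) ha hbc x (brk f G y z)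
    rwa [at'_congr f G h (mul_assoc a b c).symm _ habc0] at e
  have hPZ : P * Z = M * Z * P := commutator f G h (a * b) c hab hc (brk f G x y) z
  have hYQ : Y * Q = N * Q * Y := by
    have e := commutator f G h b (a * c) hb hac y (brk f G x z)
    rwa [at'_congr f G h (show b * (a * c) = a * b * c by ring) _ habc0] at e
  have cM : ∀ {d : D3 B} (hd : d * d = 0) (w : LieS.Lie G B f), a * b * c * d = 0 →
      ∀ v, Commute (at' f G h (a * b * c) habc0 v) (at' f G h d hd w) :=
    fun hd w h0 v => at'_comm f G h _ _ habc0 hd h0 v w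
  have za : a * b * c * a = 0 := by rw [show a * b * c * a = (a * a) * (b * c) by ring, ha, zero_mul]
  have zb : a * b * c * b = 0 := by rw [show a * b * c * b = (b * b) * (a * c) by ring, hb, zero_mul]
  have zc : a * b * c * c = 0 := by rw [mul_assoc, hc, mul_zero]
  have cPQ : Commute P Q := at'_comm f G h _ _ hab hac (by rw [mul_mul_mul_comm, ha, zero_mul]) _ _
  have cPW : Commute P W := at'_comm f G h _ _ hab hbc (by
    rw [show a * b * (b * c) = (b * b) * (a * c) by ring, hb, zero_mul]) _ _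
  have cQW : Commute Q W := at'_comm f G h _ _ hac hbc (by
    rw [show a * c * (b * c) = (c * c) * (a * b) by ring, hc, zero_mul]) _ _
  have cQZ : Commute Q Z := at'_comm f G h _ _ hac hc (by rw [mul_assoc, hc, mul_zero]) _ _
  have cPY : Commute P Y := at'_comm f G h _ _ hab hb (by rw [mul_assoc, hb, mul_zero]) _ _
  have cMY : Commute M Y := cM hb y zb _
  have cNP : Commute N P := cM hab _ (by rw [← mul_assoc, za, zero_mul]) _
  have cMQ : Commute M Q := cM hac _ (by rw [← mul_assoc, za, zero_mul]) _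
  have cMW : Commute M W := cM hbc _ (by rw [← mul_assoc, zb, zero_mul]) _
  have cNW : Commute N W := cM hbc _ (by rw [← mul_assoc, zb, zero_mul]) _
  -- move `X` across `Y * Z` in two ways
  have e1 : X * (Y * Z) = L * W * (Q * Z * (P * Y)) * X := by
    calc X * (Y * Z) = X * W * (Z * Y) := by rw [hYZ, mul_assoc W, mul_assoc]
      _ = L * W * (X * Z * Y) := by rw [hXW]; simp only [mul_assoc]
      _ = L * W * (Q * Z * (X * Y)) := by rw [hXZ]; simp only [mul_assoc]
      _ = _ := by rw [hXY]; simp only [mul_assoc]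
  have e2 : X * (Y * Z) = M * N * W * (Q * Z * (P * Y)) * X := by
    calc X * (Y * Z) = P * Y * (X * Z) := by rw [← mul_assoc, hXY]; simp only [mul_assoc]
      _ = P * (Y * Q) * Z * X := by rw [hXZ]; simp only [mul_assoc]
      _ = P * N * Q * (Y * Z) * X := by rw [hYQ]; simp only [mul_assoc]
      _ = N * (P * (Q * W)) * (Z * Y) * X := by rw [hYZ, ← cNP.eq]; simp only [mul_assoc]
      _ = N * (W * (Q * (P * Z))) * Y * X := by
          rw [cQW.eq, ← mul_assoc P, cPW.eq, mul_assoc W, cPQ.eq]; simp only [mul_assoc]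
      _ = N * (W * (Q * (M * Z * P))) * Y * X := by rw [hPZ]
      _ = N * (W * (M * (Q * Z * P))) * Y * X := by rw [← mul_assoc Q, ← mul_assoc Q, ← cMQ.eq]; simp only [mul_assoc]
      _ = N * (M * (W * (Q * Z * P))) * Y * X := by rw [← mul_assoc W, ← cMW.eq]; simp only [mul_assoc]
      _ = _ := by
          rw [show M * N = N * M from (at'_comm f G h _ _ habc0 habc0 habc0 _ _).eq]
          simp only [mul_assoc]
  exact mul_right_cancel (mul_right_cancel (mul_right_cancel (e1.symm.trans e2)))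

theorem smul_mul (b : B) (x y : LieS.Lie G B f) :
    (b • (x * y) : LieS.Lie G B f) = b • x * b • y :=
  Subtype.ext (MonObj.comp_mul _ _ _)

theorem add_smul' (b c : B) (x : LieS.Lie G B f) : ((b + c) • x : LieS.Lie G B f) = b • x * c • x :=
  Subtype.ext (by
    change LieS.scale B f (b + c) ≫ x.1 = (LieS.scale B f b ≫ x.1) * (LieS.scale B f c ≫ x.1)
    rw [scale_eq, scale_eq, scale_eq]
    exact ker_smul_add f (isKer_of_zeroSec f x.2) b c)

theorem one_smul' (x : LieS.Lie G B f) : ((1 : B) • x : LieS.Lie G B f) = x := Subtype.ext (by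
  change LieS.scale B f 1 ≫ x.1 = x.1
  rw [scale_eq, one_smul, sqzMap_id]
  exact Category.id_comp _)

theorem mul_smul' (b c : B) (x : LieS.Lie G B f) : ((b * c) • x : LieS.Lie G B f) = b • c • x :=
  Subtype.ext (by
    change LieS.scale B f (b * c) ≫ x.1 = LieS.scale B f b ≫ LieS.scale B f c ≫ x.1
    rw [← Category.assoc]
    congr 1
    ext : 1
    change Spec.map _ = Spec.map _ ≫ Spec.map _
    rw [LieS.specMap_comp]
    congr 2
    exact hom_dualNumber_ext (fun r => by simp [LieS.scaleHom, algebraMap_eq_inl'])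
      (by simp [LieS.scaleHom, algebraMap_eq_inl', mul_comm, mul_assoc, mul_left_comm]))

theorem smul_one' (b : B) : (b • (1 : LieS.Lie G B f) : LieS.Lie G B f) = 1 :=
  Subtype.ext (MonObj.comp_one _)

theorem zero_smul' (x : LieS.Lie G B f) : ((0 : B) • x : LieS.Lie G B f) = 1 := by
  have h := add_smul' f G 0 0 x
  rw [add_zero] at h
  exact mul_left_cancel (h.symm.trans (mul_one _).symm)

end Groth.Agent.LieSL

end
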