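import Groth.Agent.Lib.LieS.Basic

/-! `mulMap : I_T ×_T I_T ⟶ I_T` is an epimorphism for maps to schemes over `S`. -/

universe u

open CategoryTheory AlgebraicGeometry TrivSqZeroExt

noncomputable section

namespace Groth.Agent.LieSL

variable {S : Scheme.{u}} {B : Type u} [CommRing B] (f : Spec (CommRingCat.of B) ⟶ S)

theorem mulHom_injective : Function.Injective (LieS.mulHom B) := by
  rw [injective_iff_map_eq_zero]
  intro x hx
  have h1 := congrArg (fun y => fst (fst y)) hx
  have h2 := congrArg (fun y => snd (snd y)) hx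
  simp [LieS.mulHom, algebraMap_eq_inl'] at h1 h2
  exact TrivSqZeroExt.ext (by simpa using h1) (by simpa using h2)

theorem mulHom_eq_zero (c : DualNumber B) (h : LieS.mulHom B c = 0) : c = 0 :=
  mulHom_injective (by rw [map_zero]; exact h)

theorem fst_fst_mulHom :
    ((fstHom B B B).toRingHom.comp (fstHom (DualNumber B) (DualNumber B) (DualNumber B)).toRingHom).comp
      (LieS.mulHom B) = (fstHom B B B).toRingHom :=
  RingHom.ext fun x => by simp [LieS.mulHom, algebraMap_eq_inl']

theorem comap_fstHom_surjective {R : Type u} [CommRing R] :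
    Function.Surjective (PrimeSpectrum.comap (fstHom R R R).toRingHom) := by
  intro q
  refine ⟨⟨Ideal.comap (algebraMap R (DualNumber R)) q.asIdeal, inferInstance⟩,
    PrimeSpectrum.ext (Ideal.ext fun c => ?_)⟩
  simp only [PrimeSpectrum.comap_asIdeal, Ideal.mem_comap]
  have hr : (inr c.snd : DualNumber R) ∈ q.asIdeal := by
    apply q.isPrime.mem_of_pow_mem 2
    rw [pow_two, inr_mul_inr]
    exact q.asIdeal.zero_mem
  rw [algebraMap_eq_inl']
  conv_rhs => rw [← inl_fst_add_inr_snd_eq c]
  simpa using (Ideal.add_mem_iff_left _ hr).symm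

theorem mulHom_comap_surjective :
    Function.Surjective (PrimeSpectrum.comap (R := DualNumber B) (S := LieS.D2 B) (LieS.mulHom B)) := by
  intro p
  obtain ⟨q, hq⟩ := comap_fstHom_surjective (R := B) p
  refine ⟨PrimeSpectrum.comap
    ((fstHom B B B).toRingHom.comp (fstHom (DualNumber B) (DualNumber B) (DualNumber B)).toRingHom) q, ?_⟩
  rw [← PrimeSpectrum.comap_comp_apply, fst_fst_mulHom, hq]

theorem mulMap_left : (LieS.mulMap B f).left = Spec.map (CommRingCat.ofHom (LieS.mulHom B)) := rfl

theorem mulMap_cancel {X : Over S} {x y : LieS.dpt B f ⟶ X}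
    (h : LieS.mulMap B f ≫ x = LieS.mulMap B f ≫ y) : x = y := by
  ext : 1
  have h' : (LieS.mulMap B f).left ≫ x.left = (LieS.mulMap B f).left ≫ y.left := congrArg CommaMorphism.left h
  rw [mulMap_left] at h'
  refine spec_hom_ext_injective (A := DualNumber B) _ ?_ ?_ _ _ h'
  · exact mulHom_comap_surjective
  · exact mulHom_eq_zero

end Groth.Agent.LieSL

end
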